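import Mathlib.AlgebraicGeometry.AffineScheme
import Mathlib.AlgebraicGeometry.Properties
import Mathlib.RingTheory.Spectrum.Prime.Topology
import Mathlib.Topology.Sober
import Mathlib.Data.Set.Card

/-!
# Generic points of the irreducible components through a point
-/

universe u

namespace Groth.Agent.BrnchEt

open AlgebraicGeometry Topology

/-- The maximal generalizations of a point. -/
def gens (W : Type u) [TopologicalSpace W] (u : W) : Set W :=
  {η | η ⤳ u ∧ ∀ z, z ⤳ η → z = η}

/-- The components through a point are counted by their generic points. -/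
theorem encard_components (W : Type u) [TopologicalSpace W] [T0Space W] [QuasiSober W] (u : W) :
    {Z : Set W | Z ∈ irreducibleComponents W ∧ u ∈ Z}.encard = (gens W u).encard := by
  symm
  refine Set.encard_congr (Equiv.ofBijective (fun η => ⟨closure {η.1}, ?_⟩) ⟨?_, ?_⟩)
  · obtain ⟨η, hη, hmax⟩ := η
    refine ⟨⟨isIrreducible_singleton.closure, fun S hS hle => ?_⟩, hη.mem_closure⟩
    have h1 : η ∈ closure S := subset_closure (hle (subset_closure rfl))
    obtain ⟨z, hz⟩ := QuasiSober.sober hS.closure isClosed_closure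
    have h2 : z = η := hmax z (hz.specializes h1)
    rw [h2] at hz
    rw [hz.def]
    exact subset_closure
  · rintro ⟨η, _⟩ ⟨η', _⟩ h
    refine Subtype.ext ?_
    exact (inseparable_iff_closure_eq.2 (congrArg Subtype.val h)).eq
  · rintro ⟨Z, hZ, hu⟩
    obtain ⟨η, hη⟩ := QuasiSober.sober hZ.1 (isClosed_of_mem_irreducibleComponents Z hZ)
    refine ⟨⟨η, hη.specializes hu, fun z hz => ?_⟩, Subtype.ext hη.def⟩
    have h1 : Z ⊆ closure {z} := by
      rw [← hη.def]
      exact closure_minimal (Set.singleton_subset_iff.2 hz.mem_closure) isClosed_closure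
    have h2 : closure {z} ⊆ Z := hZ.2 isIrreducible_singleton.closure h1
    exact (inseparable_iff_closure_eq.2 ((subset_antisymm h2 h1).trans hη.def.symm)).eq

theorem gens_nonempty (W : Type u) [TopologicalSpace W] [QuasiSober W] [T0Space W] (u : W) :
    (gens W u).Nonempty := by
  have h := encard_components W u
  rw [← Set.one_le_encard_iff_nonempty, ← h, Set.one_le_encard_iff_nonempty]
  exact ⟨_, irreducibleComponent_mem_irreducibleComponents u, mem_irreducibleComponent⟩

/-- Generic points are seen on any open. -/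
theorem gens_eq_image {V W : Type u} [TopologicalSpace V] [TopologicalSpace W] {f : V → W}
    (hf : IsOpenEmbedding f) (v : V) : gens W (f v) = f '' gens V v := by
  ext η
  constructor
  · rintro ⟨h1, h2⟩
    obtain ⟨η', rfl⟩ := h1.mem_open hf.isOpen_range (Set.mem_range_self v)
    refine ⟨η', ⟨hf.toIsInducing.specializes_iff.1 h1, fun z hz => hf.injective ?_⟩, rfl⟩
    exact h2 _ (hz.map hf.continuous)
  · rintro ⟨η', ⟨h1, h2⟩, rfl⟩
    refine ⟨h1.map hf.continuous, fun z hz => ?_⟩
    obtain ⟨z', rfl⟩ := hz.mem_open hf.isOpen_range (Set.mem_range_self η')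
    rw [h2 z' (hf.toIsInducing.specializes_iff.1 hz)]

theorem encard_gens_image {V W : Type u} [TopologicalSpace V] [TopologicalSpace W] {f : V → W}
    (hf : IsOpenEmbedding f) (v : V) : (gens W (f v)).encard = (gens V v).encard := by
  rw [gens_eq_image hf, hf.injective.encard_image]

/-- The components of a spectrum through a prime. -/
theorem encard_gens_prime (B : Type u) [CommRing B] (q : PrimeSpectrum B) :
    (gens (PrimeSpectrum B) q).encard = {P | P ∈ minimalPrimes B ∧ P ≤ q.asIdeal}.encard := by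
  have hinj : Function.Injective (PrimeSpectrum.asIdeal (R := B)) := fun _ _ h => PrimeSpectrum.ext h
  rw [← hinj.encard_image]
  congr 1
  ext P
  constructor
  · rintro ⟨η, ⟨h1, h2⟩, rfl⟩
    refine ⟨⟨⟨η.isPrime, bot_le⟩, ?_⟩, (PrimeSpectrum.le_iff_specializes η q).2 h1⟩
    rintro Q ⟨hQ, -⟩ hle
    exact (congrArg PrimeSpectrum.asIdeal
      (h2 ⟨Q, hQ⟩ ((PrimeSpectrum.le_iff_specializes ⟨Q, hQ⟩ η).1 hle))).ge
  · rintro ⟨hP, hle⟩
    refine ⟨⟨P, hP.1.1⟩, ⟨(PrimeSpectrum.le_iff_specializes ⟨P, hP.1.1⟩ q).1 hle, fun z hz => ?_⟩, rfl⟩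
    have hz' : z.asIdeal ≤ P := (PrimeSpectrum.le_iff_specializes z ⟨P, hP.1.1⟩).2 hz
    exact PrimeSpectrum.ext (le_antisymm hz' (hP.2 ⟨z.isPrime, bot_le⟩ hz'))

/-- The components through a point of an affine open. -/
theorem encard_components_affine {X : Scheme.{u}} {U : X.Opens} (hU : IsAffineOpen U) (x : X)
    (hx : x ∈ U) :
    {Z : Set X | Z ∈ irreducibleComponents X ∧ x ∈ Z}.encard =
      {P | P ∈ minimalPrimes Γ(X, U) ∧ P ≤ (hU.primeIdealOf ⟨x, hx⟩).asIdeal}.encard := by
  have h := encard_gens_image hU.fromSpec.isOpenEmbedding (hU.primeIdealOf ⟨x, hx⟩)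
  rw [hU.fromSpec_primeIdealOf] at h
  rw [encard_components X x, h]
  exact encard_gens_prime Γ(X, U) (hU.primeIdealOf ⟨x, hx⟩)

end Groth.Agent.BrnchEt
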