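import Groth.Agent.BrnchEt.Local
import Groth.Agent.BrnchEt.Gens
import Mathlib.AlgebraicGeometry.ResidueField
import Mathlib.AlgebraicGeometry.Sites.EtalePoint
import Mathlib.AlgebraicGeometry.Morphisms.Etale

/-!
# Branches at a point as suprema over etale neighbourhoods
-/

universe u

open AlgebraicGeometry CategoryTheory Limits IsLocalRing

set_option backward.isDefEq.respectTransparency.types false

namespace Groth.Agent.BrnchEt

/-- The components of `U` through `u`. -/
noncomputable abbrev compsAt {U : Scheme.{u}} (u : U) : ℕ∞ :=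
  {Z : Set ↑U | Z ∈ irreducibleComponents ↑U ∧ u ∈ Z}.encard

theorem compsAt_ne_zero {U : Scheme.{u}} (u : U) : 1 ≤ compsAt u :=
  Set.one_le_encard_iff_nonempty.2
    ⟨_, irreducibleComponent_mem_irreducibleComponents u, mem_irreducibleComponent⟩

theorem compsAt_spec {B : CommRingCat.{u}} (q : Spec B) :
    compsAt q = {P | P ∈ minimalPrimes B ∧ P ≤ q.asIdeal}.encard := by
  rw [compsAt, encard_components (Spec B : Scheme.{u}) q]
  exact encard_gens_prime B q

/-- The point of the spectrum of a field. -/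
noncomputable def pt (K : Type u) [Field K] : (Spec (CommRingCat.of K) : Scheme.{u}) :=
  closedPoint K

theorem subsingleton_specField (K : Type u) [Field K] :
    Subsingleton (Spec (CommRingCat.of K) : Scheme.{u}) :=
  inferInstanceAs (Subsingleton (PrimeSpectrum K))

theorem mem_pt_iff {K : Type u} [Field K] (b : K) : b ∈ (pt K).asIdeal ↔ b = 0 := by
  show b ∈ maximalIdeal K ↔ b = 0
  rw [maximalIdeal_eq_bot, Ideal.mem_bot]

variable {X : Scheme.{u}} {x : X} {U : X.Opens} (hU : IsAffineOpen U) (hx : x ∈ U)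
  (K : Type u) [Field K] (i : X.residueField x ⟶ .of K)

/-- The sections over the open act on the field. -/
noncomputable def toField : Γ(X, U) →+* K := (X.evaluation U x hx ≫ i).hom

include hU in
theorem SpecMap_evaluation_fromSpec :
    Spec.map (X.evaluation U x hx) ≫ hU.fromSpec = X.fromSpecResidueField x := by
  rw [← Scheme.germ_residue, Spec.map_comp, Category.assoc, ← IsAffineOpen.fromSpecStalk,
    hU.fromSpecStalk_eq_fromSpecStalk hx]
  rfl

variable [Algebra Γ(X, U) K] (halg : algebraMap Γ(X, U) K = toField hx K i)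

include hU halg in
theorem SpecMap_algebraMap_fromSpec :
    Spec.map (CommRingCat.ofHom (algebraMap Γ(X, U) K)) ≫ hU.fromSpec =
      Spec.map i ≫ X.fromSpecResidueField x := by
  rw [halg, ← SpecMap_evaluation_fromSpec hU hx, ← Spec.map_comp_assoc]
  rfl

include hU halg in
/-- From an etale algebra with a point to an etale neighbourhood. -/
theorem exists_nbhd_of_algebra (B : Type u) [CommRing B] [Algebra Γ(X, U) B]
    [Algebra.Etale Γ(X, U) B] (τ : B →ₐ[Γ(X, U)] K) :
    ∃ (W : Scheme.{u}) (g : W ⟶ X) (_ : Etale g) (l : Spec (.of K) ⟶ W),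
      l ≫ g = Spec.map i ≫ X.fromSpecResidueField x ∧
      {P | P ∈ minimalPrimes B ∧ P ≤ RingHom.ker τ}.encard = compsAt (l (pt K)) := by
  haveI : Etale (Spec.map (CommRingCat.ofHom (algebraMap Γ(X, U) B))) :=
    (HasRingHomProperty.Spec_iff (P := @Etale)).2 (RingHom.etale_algebraMap.2 inferInstance)
  refine ⟨Spec (.of B), Spec.map (CommRingCat.ofHom (algebraMap Γ(X, U) B)) ≫ hU.fromSpec,
    inferInstance, Spec.map (CommRingCat.ofHom τ.toRingHom), ?_, ?_⟩
  · rw [← Spec.map_comp_assoc, ← CommRingCat.ofHom_comp]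
    rw [show τ.toRingHom.comp (algebraMap Γ(X, U) B) = algebraMap Γ(X, U) K from τ.comp_algebraMap]
    exact SpecMap_algebraMap_fromSpec hU hx K i halg
  · rw [compsAt_spec]
    have hq : RingHom.ker τ =
        ((Spec.map (CommRingCat.ofHom τ.toRingHom)) (pt K)).asIdeal := by
      ext b
      exact (mem_pt_iff (τ b)).symm
    rw [hq]

include hU halg in
/-- From an etale neighbourhood with a point to an etale algebra. -/
theorem exists_algebra_of_nbhd {W : Scheme.{u}} (g : W ⟶ X) [Etale g] (l : Spec (.of K) ⟶ W)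
    (hl : l ≫ g = Spec.map i ≫ X.fromSpecResidueField x) :
    ∃ (B : Type u) (_ : CommRing B) (_ : Algebra Γ(X, U) B) (_ : Algebra.Etale Γ(X, U) B)
      (τ : B →ₐ[Γ(X, U)] K),
      compsAt (l (pt K)) = {P | P ∈ minimalPrimes B ∧ P ≤ RingHom.ker τ}.encard := by
  have hgu : g (l (pt K)) = x := by
    rw [← Scheme.Hom.comp_apply, hl, Scheme.Hom.comp_apply, Scheme.fromSpecResidueField_apply]
  have hmem : l (pt K) ∈ g ⁻¹ᵁ U := by
    show g (l (pt K)) ∈ U
    rwa [hgu]
  obtain ⟨_, ⟨V, hV, rfl⟩, huV, hVU⟩ :=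
    W.isBasis_affineOpens.exists_subset_of_mem_open hmem (g ⁻¹ᵁ U).2
  replace hVU : V ≤ g ⁻¹ᵁ U := hVU
  algebraize [(g.appLE U V hVU).hom]
  haveI : Algebra.Etale Γ(X, U) Γ(W, V) := RingHom.etale_algebraMap.1 (g.etale_appLE hU hV hVU)
  have htop : (⊤ : (Spec (.of K)).Opens) ≤ l ⁻¹ᵁ V := fun y _ => by
    show l y ∈ V
    rwa [(subsingleton_specField K).elim y (pt K)]
  let τ₀ : Γ(W, V) ⟶ .of K := l.appLE V ⊤ htop ≫ (Scheme.ΓSpecIso (.of K)).hom
  have hτ₀ : Spec.map τ₀ ≫ hV.fromSpec = l := by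
    rw [Spec.map_comp, Category.assoc,
      IsAffineOpen.SpecMap_appLE_fromSpec l hV (isAffineOpen_top _) htop,
      IsAffineOpen.fromSpec_top, Scheme.isoSpec_Spec_inv, ← Spec.map_comp_assoc,
      Iso.inv_hom_id, Spec.map_id, Category.id_comp]
  have hc : τ₀.hom.comp (algebraMap Γ(X, U) Γ(W, V)) = algebraMap Γ(X, U) K := by
    have h1 : Spec.map (g.appLE U V hVU ≫ τ₀) ≫ hU.fromSpec =
        Spec.map (CommRingCat.ofHom (algebraMap Γ(X, U) K)) ≫ hU.fromSpec := by
      rw [Spec.map_comp, Category.assoc, IsAffineOpen.SpecMap_appLE_fromSpec g hU hV hVU,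
        ← Category.assoc, hτ₀, hl, SpecMap_algebraMap_fromSpec hU hx K i halg]
    exact congr(($(Spec.map_injective ((cancel_mono _).1 h1))).hom)
  refine ⟨Γ(W, V), inferInstance, inferInstance, inferInstance,
    { τ₀.hom with commutes' := fun a => congr($hc a) }, ?_⟩
  rw [show compsAt (l (pt K)) = _ from
    encard_components_affine hV (l (pt K)) huV]
  have hq : hV.primeIdealOf ⟨l (pt K), huV⟩ = (Spec.map τ₀) (pt K) := by
    apply hV.fromSpec.isOpenEmbedding.injective
    rw [hV.fromSpec_primeIdealOf, ← Scheme.Hom.comp_apply, hτ₀]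
  rw [hq]
  congr 1
  ext P
  refine and_congr_right fun _ => ?_
  refine forall₂_congr fun b _ => ?_
  exact mem_pt_iff (τ₀.hom b)

theorem residue_bijective_of_section {W : Scheme.{u}} (g : W ⟶ X)
    (l : Spec (CommRingCat.of (X.residueField x)) ⟶ W)
    (hl : l ≫ g = Spec.map (𝟙 (X.residueField x)) ≫ X.fromSpecResidueField x) :
    g (l (pt (X.residueField x))) = x ∧
      Function.Bijective (g.residueFieldMap (l (pt (X.residueField x)))) := by
  obtain ⟨u, φ, rfl⟩ : ∃ (u : W) (φ : W.residueField u ⟶ X.residueField x),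
      Spec.map φ ≫ W.fromSpecResidueField u = l :=
    ⟨_, _, Scheme.descResidueField_stalkClosedPointTo_fromSpecResidueField _ W l⟩
  have hu : (Spec.map φ ≫ W.fromSpecResidueField u) (pt (X.residueField x)) = u := by
    rw [Scheme.Hom.comp_apply, Scheme.fromSpecResidueField_apply]
  rw [hu]
  have hgu : g u = x := by
    rw [← hu, ← Scheme.Hom.comp_apply, hl, Scheme.Hom.comp_apply, Scheme.fromSpecResidueField_apply]
  refine ⟨hgu, ?_⟩
  subst hgu
  have h1 : g.residueFieldMap u ≫ φ = 𝟙 _ := by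
    rw [← Spec.map_inj, ← cancel_mono (X.fromSpecResidueField (g u)), Spec.map_comp,
      Category.assoc, g.SpecMap_residueFieldMap_fromSpecResidueField, ← Category.assoc, hl]
  refine ⟨(g.residueFieldMap u).hom.injective, fun b => ⟨φ b, φ.hom.injective ?_⟩⟩
  exact congr($h1 (φ b))

include hU hx in
theorem numBranchesAt_eq_iSup_affine :
    Brnch.numBranchesAt X x = ⨆ (W : Scheme.{u}) (g : W ⟶ X) (u : W)
      (_ : Hens2.IsEtaleNbhd g u x), compsAt u := by
  letI : Algebra Γ(X, U) (X.presheaf.stalk x) := (X.presheaf.germ U x hx).hom.toAlgebra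
  haveI := hU.isLocalization_stalk ⟨x, hx⟩
  rw [Brnch.numBranchesAt,
    numBranches_eq_iSup Γ(X, U) _ (hU.primeIdealOf ⟨x, hx⟩).asIdeal.primeCompl]
  have halg : algebraMap Γ(X, U) (ResidueField (X.presheaf.stalk x)) =
      toField hx (ResidueField (X.presheaf.stalk x)) (𝟙 (X.residueField x)) := rfl
  refine le_antisymm (iSup_le fun B => iSup_le fun _ => iSup_le fun _ => iSup_le fun _ =>
    iSup_le fun τ => ?_) (iSup_le fun W => iSup_le fun g => iSup_le fun u => iSup_le fun h => ?_)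
  · obtain ⟨W, g, hg, l, hl, he⟩ :=
      exists_nbhd_of_algebra hU hx (ResidueField (X.presheaf.stalk x)) (𝟙 (X.residueField x)) halg B τ
    rw [he]
    obtain ⟨h1, h2⟩ := residue_bijective_of_section g (x := x) l hl
    exact le_iSup_of_le W (le_iSup_of_le g (le_iSup_of_le _ (le_iSup_of_le ⟨hg, h1, h2⟩ le_rfl)))
  · haveI := h.etale
    obtain ⟨hgu, hb⟩ : g u = x ∧ Function.Bijective (g.residueFieldMap u) :=
      ⟨h.base_eq, h.residue_bijective⟩
    subst hgu
    obtain ⟨ψ, hψ⟩ : ∃ ψ, g.residueFieldMap u ≫ ψ = 𝟙 (X.residueField (g u)) :=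
      ⟨CommRingCat.ofHom (RingEquiv.ofBijective (g.residueFieldMap u).hom hb).symm.toRingHom,
        CommRingCat.hom_ext (RingHom.ext fun a => (RingEquiv.ofBijective _ hb).symm_apply_apply a)⟩
    have hl : (Spec.map ψ ≫ W.fromSpecResidueField u) ≫ g =
        Spec.map (𝟙 (X.residueField (g u))) ≫ X.fromSpecResidueField (g u) := by
      rw [Category.assoc, ← g.SpecMap_residueFieldMap_fromSpecResidueField, ← Spec.map_comp_assoc, hψ]
    obtain ⟨B, i₁, i₂, i₃, τ, he⟩ := exists_algebra_of_nbhd hU hx (ResidueField (X.presheaf.stalk (g u)))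
      (𝟙 (X.residueField (g u))) halg g (Spec.map ψ ≫ W.fromSpecResidueField u) hl
    rw [Scheme.Hom.comp_apply, Scheme.fromSpecResidueField_apply] at he
    rw [he]
    exact le_iSup_of_le B (le_iSup_of_le i₁ (le_iSup_of_le i₂ (le_iSup_of_le i₃
      (le_iSup_of_le τ le_rfl))))

include hU hx in
theorem numGeomBranchesAt_eq_iSup_affine :
    Brnch.numGeomBranchesAt X x = ⨆ (W : Scheme.{u}) (g : W ⟶ X) (u : W)
      (_ : Etale g ∧ g u = x), compsAt u := by
  letI : Algebra Γ(X, U) (X.presheaf.stalk x) := (X.presheaf.germ U x hx).hom.toAlgebra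
  haveI := hU.isLocalization_stalk ⟨x, hx⟩
  let Ω := AlgebraicClosure (ResidueField (X.presheaf.stalk x))
  let i : X.residueField x ⟶ .of Ω :=
    CommRingCat.ofHom (algebraMap (ResidueField (X.presheaf.stalk x)) Ω)
  rw [Brnch.numGeomBranchesAt,
    numGeomBranches_eq_iSup Γ(X, U) _ (hU.primeIdealOf ⟨x, hx⟩).asIdeal.primeCompl]
  have halg : algebraMap Γ(X, U) Ω = toField hx Ω i :=
    (IsScalarTower.algebraMap_eq Γ(X, U) (ResidueField (X.presheaf.stalk x)) Ω).trans rfl
  refine le_antisymm (iSup_le fun B => iSup_le fun _ => iSup_le fun _ => iSup_le fun _ =>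
    iSup_le fun τ => ?_) (iSup_le fun W => iSup_le fun g => iSup_le fun u => iSup_le fun h => ?_)
  · obtain ⟨W, g, hg, l, hl, he⟩ := exists_nbhd_of_algebra hU hx Ω i halg B τ
    rw [he]
    refine le_iSup_of_le W (le_iSup_of_le g (le_iSup_of_le _ (le_iSup_of_le ⟨hg, ?_⟩ le_rfl)))
    rw [← Scheme.Hom.comp_apply, hl, Scheme.Hom.comp_apply, Scheme.fromSpecResidueField_apply]
  · obtain ⟨hg, hgu⟩ := h
    haveI := hg
    obtain ⟨l, hl, hlu⟩ := Scheme.exists_fac_of_etale_of_isSepClosed g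
      (Spec.map i ≫ X.fromSpecResidueField x) u
      (by rw [hgu, Scheme.Hom.comp_apply, Scheme.fromSpecResidueField_apply])
    obtain ⟨B, i₁, i₂, i₃, τ, he⟩ := exists_algebra_of_nbhd hU hx Ω i halg g l hl
    rw [(subsingleton_specField Ω).elim (pt Ω) default, hlu] at he
    rw [he]
    exact le_iSup_of_le B (le_iSup_of_le i₁ (le_iSup_of_le i₂ (le_iSup_of_le i₃
      (le_iSup_of_le τ le_rfl))))

/-- The branches at a point. -/
theorem numBranchesAt_eq_iSup (X : Scheme.{u}) (x : X) :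
    Brnch.numBranchesAt X x = ⨆ (W : Scheme.{u}) (g : W ⟶ X) (u : W)
      (_ : Hens2.IsEtaleNbhd g u x), compsAt u := by
  obtain ⟨_, ⟨U, hU, rfl⟩, hx, -⟩ :=
    X.isBasis_affineOpens.exists_subset_of_mem_open (Set.mem_univ x) isOpen_univ
  exact numBranchesAt_eq_iSup_affine hU hx

/-- The geometric branches at a point. -/
theorem numGeomBranchesAt_eq_iSup (X : Scheme.{u}) (x : X) :
    Brnch.numGeomBranchesAt X x = ⨆ (W : Scheme.{u}) (g : W ⟶ X) (u : W)
      (_ : Etale g ∧ g u = x), compsAt u := by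
  obtain ⟨_, ⟨U, hU, rfl⟩, hx, -⟩ :=
    X.isBasis_affineOpens.exists_subset_of_mem_open (Set.mem_univ x) isOpen_univ
  exact numGeomBranchesAt_eq_iSup_affine hU hx

theorem iSup_nbhd_eq_one_iff {X : Scheme.{u}}
    (P : ∀ (W : Scheme.{u}), (W ⟶ X) → W → Prop)
    (hex : ∃ (W : Scheme.{u}) (g : W ⟶ X) (u : W), P W g u) :
    (⨆ (W : Scheme.{u}) (g : W ⟶ X) (u : W) (_ : P W g u), compsAt u) = 1 ↔
      ∀ (W : Scheme.{u}) (g : W ⟶ X) (u : W), P W g u → compsAt u = 1 := by
  constructor
  · intro h W g u hp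
    refine le_antisymm (h ▸ ?_) (compsAt_ne_zero u)
    exact le_iSup_of_le W (le_iSup_of_le g (le_iSup_of_le u (le_iSup_of_le hp le_rfl)))
  · intro h
    refine le_antisymm (iSup_le fun W => iSup_le fun g => iSup_le fun u => iSup_le fun hp =>
      (h W g u hp).le) ?_
    obtain ⟨W, g, u, hp⟩ := hex
    exact le_iSup_of_le W (le_iSup_of_le g (le_iSup_of_le u (le_iSup_of_le hp (compsAt_ne_zero u))))

theorem isEtaleNbhd_id (X : Scheme.{u}) (x : X) : Hens2.IsEtaleNbhd (𝟙 X) x x :=
  ⟨inferInstance, rfl, by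
    rw [Scheme.residueFieldMap_id]
    exact Function.bijective_id⟩

end Groth.Agent.BrnchEt
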