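import Groth.Agent.EtFound.LiftEtale
import Groth.Agent.EtFound.LiftEtaleLoc

/-!
# Standard etale algebras descend along localizations of quotients
-/

universe u

open scoped TensorProduct

namespace Groth.Agent.BrnchEt

/-- Every element is a fraction of images of `A`. -/
def IsFracOf (A C : Type u) [CommRing A] [CommRing C] [Algebra A C] : Prop :=
  ∀ c : C, ∃ a t : A, IsUnit (algebraMap A C t) ∧ c * algebraMap A C t = algebraMap A C a

theorem IsFracOf.tensor {R A L : Type u} [CommRing R] [CommRing A] [CommRing L] [Algebra R A]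
    [Algebra R L] (h : IsFracOf R L) : IsFracOf A (A ⊗[R] L) := by
  intro c
  induction c using TensorProduct.induction_on with
  | zero => exact ⟨0, 1, by rw [map_one]; exact isUnit_one, by simp⟩
  | tmul a l =>
    obtain ⟨r, t, ht, hl⟩ := h l
    refine ⟨a * algebraMap R A r, algebraMap R A t, ?_, ?_⟩
    · rw [← IsScalarTower.algebraMap_apply R A (A ⊗[R] L),
        show algebraMap R (A ⊗[R] L) t = 1 ⊗ₜ algebraMap R L t from
          ((Algebra.TensorProduct.includeRight (R := R) (A := A) (B := L)).commutes t).symm]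
      exact ht.map Algebra.TensorProduct.includeRight
    · simp only [Algebra.TensorProduct.algebraMap_apply, Algebra.algebraMap_self, RingHom.id_apply,
        Algebra.TensorProduct.tmul_mul_tmul, mul_one]
      rw [mul_comm a (algebraMap R A t), mul_comm a (algebraMap R A r), ← Algebra.smul_def,
        ← Algebra.smul_def, TensorProduct.smul_tmul, TensorProduct.smul_tmul, Algebra.smul_def,
        Algebra.smul_def, mul_comm (algebraMap R L t), hl, mul_one]
  | add x y hx hy =>
    obtain ⟨a, t, ht, hx⟩ := hx
    obtain ⟨b, s, hs, hy⟩ := hy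
    refine ⟨a * s + b * t, t * s, by rw [map_mul]; exact ht.mul hs, ?_⟩
    rw [map_mul, map_add, map_mul, map_mul, add_mul, ← hx, ← hy]
    ring

variable {A C : Type u} [CommRing A] [CommRing C] [Algebra A C]

/-- Standard etale algebras descend. -/
theorem exists_standardEtale_descend (hC : IsFracOf A C) (D : Type u) [CommRing D] [Algebra C D]
    [Algebra.IsStandardEtale C D] :
    ∃ (P : StandardEtalePair A), Nonempty (C ⊗[A] P.Ring ≃ₐ[C] D) := by
  let A' := A ⧸ RingHom.ker (algebraMap A C)
  letI : Algebra A' C := (Ideal.Quotient.lift (RingHom.ker (algebraMap A C)) (algebraMap A C)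
    fun _ ha => ha).toAlgebra
  haveI : IsScalarTower A A' C := .of_algebraMap_eq fun _ => rfl
  let S : Submonoid A' := (IsUnit.submonoid C).comap (algebraMap A' C)
  haveI : IsLocalization S C := {
    map_units := fun s => s.2
    surj := fun c => by
      obtain ⟨a, t, ht, e⟩ := hC c
      exact ⟨⟨algebraMap A A' a, ⟨algebraMap A A' t, ht⟩⟩, e⟩
    exists_of_eq := fun {x y} h => ⟨1, by
      have : x = y := RingHom.lift_injective_of_ker_le_ideal
        (RingHom.ker (algebraMap A C)) (fun _ ha => ha) le_rfl h
      rw [this]⟩ }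
  obtain ⟨P', ⟨e₁⟩⟩ := EtFound.exists_standardEtale_lift_loc (A := A') (T := C) (C := D) S
  obtain ⟨P, ⟨e₂⟩⟩ := EtFound.exists_standardEtale_lift (A := A) (T := A') (C := P'.Ring)
    Ideal.Quotient.mk_surjective
  exact ⟨P, ⟨(Algebra.TensorProduct.cancelBaseChange A A' C C P.Ring).symm.trans
    ((Algebra.TensorProduct.congr (AlgEquiv.refl (R := C) (A₁ := C)) e₂).trans e₁)⟩⟩

end Groth.Agent.BrnchEt
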