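import Groth.Agent.BrnchEt.Scheme
import Groth.Agent.BrnchEt.Descend
import Groth.Agent.FlatMisc.InfNbhd

/-!
# Etale neighbourhoods of a point in a fibre lift to the total space
-/

universe u

open AlgebraicGeometry CategoryTheory Limits IsLocalRing

namespace Groth.Agent.BrnchEt

set_option backward.isDefEq.respectTransparency.types false

variable {X S : Scheme.{u}}

/-- The map of fibres induced by a morphism over `S`. -/
noncomputable def fibreMap {U : Scheme.{u}} (g : U ⟶ X) (f : X ⟶ S) (s : S) :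
    (g ≫ f).fiber s ⟶ f.fiber s :=
  pullback.lift (pullback.fst (g ≫ f) (S.fromSpecResidueField s) ≫ g) (pullback.snd _ _) (by
    rw [Category.assoc]
    exact pullback.condition)

theorem fibreMap_fiberι {U : Scheme.{u}} (g : U ⟶ X) (f : X ⟶ S) (s : S) :
    fibreMap g f s ≫ f.fiberι s = (g ≫ f).fiberι s ≫ g :=
  pullback.lift_fst _ _ _

theorem isPullback_fibreMap {U : Scheme.{u}} (g : U ⟶ X) (f : X ⟶ S) (s : S) :
    IsPullback ((g ≫ f).fiberι s) (fibreMap g f s) g (f.fiberι s) := by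
  refine IsPullback.of_bot ?_ (fibreMap_fiberι g f s).symm
    (IsPullback.of_hasPullback f (S.fromSpecResidueField s))
  have h : fibreMap g f s ≫ pullback.snd f (S.fromSpecResidueField s) = pullback.snd _ _ :=
    pullback.lift_snd _ _ _
  rw [h]
  exact IsPullback.of_hasPullback (g ≫ f) (S.fromSpecResidueField s)

theorem etale_fibreMap {U : Scheme.{u}} (g : U ⟶ X) [Etale g] (f : X ⟶ S) (s : S) :
    Etale (fibreMap g f s) :=
  MorphismProperty.of_isPullback (P := @Etale) (isPullback_fibreMap g f s) ‹_›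

theorem isFracOf_residueField {S₀ : S.Opens} (hS₀ : IsAffineOpen S₀) (s : S) (hs : s ∈ S₀)
    [Algebra Γ(S, S₀) (S.residueField s)]
    (h : algebraMap Γ(S, S₀) (S.residueField s) = (S.evaluation S₀ s hs).hom) :
    IsFracOf Γ(S, S₀) (S.residueField s) := by
  letI : Algebra Γ(S, S₀) (S.presheaf.stalk s) := (S.presheaf.germ S₀ s hs).hom.toAlgebra
  haveI := hS₀.isLocalization_stalk ⟨s, hs⟩
  intro c
  obtain ⟨c₀, rfl⟩ := S.residue_surjective s c
  obtain ⟨⟨a, t⟩, e⟩ :=
    IsLocalization.surj (hS₀.primeIdealOf ⟨s, hs⟩).asIdeal.primeCompl c₀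
  rw [h]
  refine ⟨a, t, (IsLocalization.map_units _ t).map (S.residue s).hom, ?_⟩
  exact (map_mul (S.residue s).hom _ _).symm.trans (congrArg (S.residue s).hom e)

theorem exists_affine_lift (f : X ⟶ S) (x : X) {W : Scheme.{u}} (h : W ⟶ f.fiber (f x)) [Etale h]
    (w : W) (hw : h w = f.asFiber x) :
    ∃ (U : Scheme.{u}) (g : U ⟶ X) (_ : Etale g) (o : (g ≫ f).fiber (f x) ⟶ W)
      (_ : IsOpenImmersion o) (u' : ↑((g ≫ f).fiber (f x))),
      o ≫ h = fibreMap g f (f x) ∧ o u' = w := by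
  obtain ⟨_, ⟨S₀, hS₀, rfl⟩, hs, -⟩ :=
    S.isBasis_affineOpens.exists_subset_of_mem_open (Set.mem_univ (f x)) isOpen_univ
  obtain ⟨_, ⟨U₀, hU₀, rfl⟩, hx, hle⟩ :=
    X.isBasis_affineOpens.exists_subset_of_mem_open (show x ∈ f ⁻¹ᵁ S₀ from hs) (f ⁻¹ᵁ S₀).2
  replace hle : U₀ ≤ f ⁻¹ᵁ S₀ := hle
  algebraize [(f.appLE S₀ U₀ hle).hom]
  letI : Algebra Γ(S, S₀) (S.residueField (f x)) := (S.evaluation S₀ (f x) hs).hom.toAlgebra
  have hL : IsFracOf Γ(S, S₀) (S.residueField (f x)) :=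
    isFracOf_residueField hS₀ (f x) hs rfl
  let C : CommRingCat.{u} := .of (TensorProduct Γ(S, S₀) Γ(X, U₀) (S.residueField (f x)))
  have hC : IsFracOf Γ(X, U₀) C := hL.tensor
  let aR : Spec Γ(X, U₀) ⟶ Spec Γ(S, S₀) :=
    Spec.map (CommRingCat.ofHom (algebraMap Γ(S, S₀) Γ(X, U₀)))
  let lR : Spec (S.residueField (f x)) ⟶ Spec Γ(S, S₀) :=
    Spec.map (CommRingCat.ofHom (algebraMap Γ(S, S₀) (S.residueField (f x))))
  let cA : Spec C ⟶ Spec Γ(X, U₀) := Spec.map (CommRingCat.ofHom (algebraMap Γ(X, U₀) C))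
  let cL : Spec C ⟶ Spec (S.residueField (f x)) :=
    Spec.map (CommRingCat.ofHom (Algebra.TensorProduct.includeRight (R := Γ(S, S₀)) (A := Γ(X, U₀))
      (B := S.residueField (f x))).toRingHom)
  have sq₀ : IsPullback cA cL (aR ≫ hS₀.fromSpec) (lR ≫ hS₀.fromSpec) := by
    let ψ := pullbackSpecIso Γ(S, S₀) Γ(X, U₀) (S.residueField (f x) : Type u)
    have h₁ : ψ.hom ≫ cA = pullback.fst aR lR := pullbackSpecIso_hom_fst' _ _ _
    have h₂ : ψ.hom ≫ cL = pullback.snd aR lR := pullbackSpecIso_hom_snd _ _ _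
    have := (IsPullback.of_hasPullback aR lR).of_iso ψ (Iso.refl _) (Iso.refl _)
      (Iso.refl _) (fst' := cA) (snd' := cL) (f' := aR) (g' := lR)
      ((Category.comp_id _).trans h₁.symm) ((Category.comp_id _).trans h₂.symm)
      (by simp) (by simp)
    exact ⟨⟨by rw [reassoc_of% this.w]⟩, ⟨PullbackCone.isLimitOfCompMono _ _ hS₀.fromSpec _ this.isLimit⟩⟩
  have hf₀ : aR ≫ hS₀.fromSpec = hU₀.fromSpec ≫ f :=
    IsAffineOpen.SpecMap_appLE_fromSpec f hS₀ hU₀ hle
  have hs₀ : lR ≫ hS₀.fromSpec = S.fromSpecResidueField (f x) :=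
    SpecMap_evaluation_fromSpec hS₀ hs
  rw [hf₀, hs₀] at sq₀
  let j : Spec C ⟶ f.fiber (f x) := pullback.lift (cA ≫ hU₀.fromSpec) cL (by
    rw [Category.assoc]; exact sq₀.w)
  have hjι : j ≫ f.fiberι (f x) = cA ≫ hU₀.fromSpec := pullback.lift_fst _ _ _
  have sqj : IsPullback cA j hU₀.fromSpec (f.fiberι (f x)) := by
    refine IsPullback.of_bot ?_ hjι.symm (IsPullback.of_hasPullback f (S.fromSpecResidueField (f x)))
    rw [show j ≫ pullback.snd f (S.fromSpecResidueField (f x)) = cL from pullback.lift_snd _ _ _]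
    exact sq₀
  haveI : IsOpenImmersion j :=
    MorphismProperty.of_isPullback (P := @IsOpenImmersion) sqj inferInstance
  -- the neighbourhood over `Spec C`
  obtain ⟨y₀, hy₀⟩ : ∃ y₀, j y₀ = f.asFiber x := by
    obtain ⟨a, ha⟩ : x ∈ Set.range hU₀.fromSpec := hU₀.range_fromSpec ▸ hx
    obtain ⟨y₀, -, hy⟩ := Scheme.exists_preimage_of_isPullback sqj a (f.asFiber x)
      (ha.trans (f.fiberι_asFiber x).symm)
    exact ⟨y₀, hy⟩
  obtain ⟨w₁, hw₁, -⟩ := Scheme.Pullback.exists_preimage_pullback (f := h) (g := j) w y₀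
    (hw.trans hy₀.symm)
  obtain ⟨D₀, i₀, hi₀, ⟨q, hq⟩, -⟩ := Scheme.exists_affine_mem_range_and_range_subset
    (x := w₁) (U := (⊤ : (pullback h j).Opens)) (by simp)
  obtain ⟨φ, hφ⟩ := Spec.map_surjective (i₀ ≫ pullback.snd h j)
  algebraize [φ.hom]
  haveI : Algebra.Etale C D₀ := by
    haveI : Etale (pullback.snd h j) :=
      MorphismProperty.of_isPullback (P := @Etale) (IsPullback.of_hasPullback h j) ‹_›
    have h' : Etale (Spec.map φ) := by rw [hφ]; infer_instance
    exact RingHom.etale_algebraMap.1 ((HasRingHomProperty.Spec_iff (P := @Etale)).mp h')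
  obtain ⟨t, htq, hst⟩ := Algebra.IsEtaleAt.exists_isStandardEtale (R := C) q.asIdeal
  obtain ⟨P, ⟨e⟩⟩ := exists_standardEtale_descend hC (Localization.Away t)
  let g : Spec (.of P.Ring) ⟶ X :=
    Spec.map (CommRingCat.ofHom (algebraMap Γ(X, U₀) P.Ring)) ≫ hU₀.fromSpec
  haveI : Etale (Spec.map (CommRingCat.ofHom (algebraMap Γ(X, U₀) P.Ring))) :=
    (HasRingHomProperty.Spec_iff (P := @Etale)).2 (RingHom.etale_algebraMap.2 inferInstance)
  let T : CommRingCat.{u} := .of (TensorProduct Γ(X, U₀) C P.Ring)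
  let tP : Spec T ⟶ Spec (.of P.Ring) :=
    Spec.map (CommRingCat.ofHom (Algebra.TensorProduct.includeRight (R := Γ(X, U₀)) (A := C)
      (B := P.Ring)).toRingHom)
  let tC : Spec T ⟶ Spec C := Spec.map (CommRingCat.ofHom (algebraMap C T))
  have sq₁ : IsPullback tP tC (Spec.map (CommRingCat.ofHom (algebraMap Γ(X, U₀) P.Ring))) cA := by
    have := (IsPullback.of_hasPullback cA
        (Spec.map (CommRingCat.ofHom (algebraMap Γ(X, U₀) P.Ring)))).of_iso
      (pullbackSpecIso _ _ _) (Iso.refl _) (Iso.refl _) (Iso.refl _)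
      (fst' := tC) (snd' := tP) (f' := cA)
      (g' := Spec.map (CommRingCat.ofHom (algebraMap Γ(X, U₀) P.Ring)))
      (by simpa [tC, T, cA] using (pullbackSpecIso_hom_fst' _ _ _).symm)
      (by simpa [tP, T, cA] using (pullbackSpecIso_hom_snd _ _ _).symm) (by simp) (by simp)
    exact this.flip
  have sq₂ : IsPullback tP (tC ≫ j) g (f.fiberι (f x)) := sq₁.paste_vert sqj
  let ε := (isPullback_fibreMap g f (f x)).isoIsPullback _ _ sq₂
  have hεc : ε.hom ≫ tC ≫ j = fibreMap g f (f x) :=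
    (isPullback_fibreMap g f (f x)).isoIsPullback_hom_snd _ _ sq₂
  let η : Spec T ⟶ Spec (.of (Localization.Away t)) :=
    Spec.map (CommRingCat.ofHom e.symm.toRingEquiv.toRingHom)
  haveI : IsIso η :=
    inferInstanceAs (IsIso (Spec.map e.symm.toRingEquiv.toCommRingCatIso.hom))
  let ot : Spec (.of (Localization.Away t)) ⟶ Spec D₀ :=
    Spec.map (CommRingCat.ofHom (algebraMap D₀ (Localization.Away t)))
  haveI : IsOpenImmersion ot := IsOpenImmersion.of_isLocalization t
  let o : Spec T ⟶ W := η ≫ ot ≫ i₀ ≫ pullback.fst h j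
  haveI : IsOpenImmersion (pullback.fst h j) :=
    MorphismProperty.of_isPullback (P := @IsOpenImmersion) (IsPullback.of_hasPullback h j).flip ‹_›
  have hoh : o ≫ h = tC ≫ j := by
    have h1 : η ≫ ot ≫ Spec.map φ = tC := by
      simp only [η, ot, tC, ← Spec.map_comp]
      refine congrArg Spec.map (CommRingCat.hom_ext (RingHom.ext fun r => ?_))
      show e.symm (algebraMap D₀ (Localization.Away t) (algebraMap C D₀ r)) = algebraMap C T r
      rw [← IsScalarTower.algebraMap_apply C D₀ (Localization.Away t), e.symm.commutes]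
    rw [← h1, hφ]
    simp only [o, Category.assoc, pullback.condition]
  refine ⟨Spec (.of P.Ring), g, inferInstance, ε.hom ≫ o, inferInstance, ?_⟩
  obtain ⟨v, hv⟩ : q ∈ Set.range ot :=
    (PrimeSpectrum.localization_away_comap_range (Localization.Away t) t).ge htq
  obtain ⟨v', hv'⟩ := η.surjective v
  obtain ⟨u', hu'⟩ := ε.hom.surjective v'
  refine ⟨u', ((Category.assoc _ _ _).trans (congrArg (ε.hom ≫ ·) hoh)).trans hεc, ?_⟩
  simp only [o, Scheme.Hom.comp_apply, hu', hv', hv, hq, hw₁]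

end Groth.Agent.BrnchEt
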