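import Groth.Agent.BrnchEt.Fibre

/-!
# Branches of a fibre
-/

universe u

open AlgebraicGeometry CategoryTheory Limits

namespace Groth.Agent.BrnchEt

set_option backward.isDefEq.respectTransparency.types false

variable {X S : Scheme.{u}}

/-- The count of components of the fibre through the point over `u`. -/
noncomputable abbrev fibreCompsAt {U : Scheme.{u}} (g : U ⟶ X) (f : X ⟶ S) (s : S) (u : U) : ℕ∞ :=
  {Z : Set ↑((g ≫ f).fiber s) | Z ∈ irreducibleComponents ↑((g ≫ f).fiber s) ∧
    ∃ u' ∈ Z, (g ≫ f).fiberι s u' = u}.encard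

theorem fibreCompsAt_eq {U : Scheme.{u}} (g : U ⟶ X) (f : X ⟶ S) (s : S) (u' : ↑((g ≫ f).fiber s)) :
    fibreCompsAt g f s ((g ≫ f).fiberι s u') = compsAt u' := by
  unfold fibreCompsAt compsAt
  congr 1
  ext Z
  refine and_congr_right fun _ => ⟨fun ⟨v, hv, e⟩ => ?_, fun h => ⟨u', h, rfl⟩⟩
  rwa [((g ≫ f).fiberι s).isEmbedding.injective e] at hv

theorem compsAt_eq_of_openImmersion {V W : Scheme.{u}} (o : V ⟶ W) [IsOpenImmersion o] (v : V) :
    compsAt (o v) = compsAt v := by
  rw [compsAt, compsAt, encard_components W (o v), encard_components V v,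
    encard_gens_image o.isOpenEmbedding]

theorem residue_bijective_comp_left_iff {A B C : Scheme.{u}} (a : A ⟶ B) (b : B ⟶ C) (p : A)
    (h : Function.Bijective (a.residueFieldMap p)) :
    Function.Bijective ((a ≫ b).residueFieldMap p) ↔ Function.Bijective (b.residueFieldMap (a p)) := by
  rw [Scheme.residueFieldMap_comp]
  exact (Function.Bijective.of_comp_iff' h _)

theorem residue_bijective_congr {A B : Scheme.{u}} {a a' : A ⟶ B} (e : a = a') (p : A) :
    Function.Bijective (a.residueFieldMap p) ↔ Function.Bijective (a'.residueFieldMap p) := by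
  subst e
  rfl

/-- Residue extensions of a morphism and of its map of fibres agree. -/
theorem residue_bijective_fibreMap_iff {U : Scheme.{u}} (g : U ⟶ X) (f : X ⟶ S) (s : S)
    (u' : ↑((g ≫ f).fiber s)) :
    Function.Bijective ((fibreMap g f s).residueFieldMap u') ↔
      Function.Bijective (g.residueFieldMap ((g ≫ f).fiberι s u')) := by
  rw [← residue_bijective_comp_left_iff ((g ≫ f).fiberι s) g u'
      (FlatMisc.residueFieldMap_bijective_of_isPreimmersion _ _),
    ← residue_bijective_congr (fibreMap_fiberι g f s) u', Scheme.residueFieldMap_comp]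
  exact (Function.Bijective.of_comp_iff ((fibreMap g f s).residueFieldMap u')
    (FlatMisc.residueFieldMap_bijective_of_isPreimmersion (f.fiberι s) _)).symm

theorem exists_point_over {U : Scheme.{u}} (g : U ⟶ X) (f : X ⟶ S) (x : X) (u : U) (hu : g u = x) :
    ∃ u', (g ≫ f).fiberι (f x) u' = u ∧ fibreMap g f (f x) u' = f.asFiber x := by
  obtain ⟨u', h1, h2⟩ := Scheme.exists_preimage_of_isPullback (isPullback_fibreMap g f (f x)) u
    (f.asFiber x) (hu.trans (f.fiberι_asFiber x).symm)
  exact ⟨u', h1, h2⟩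

theorem numGeomBranchesAt_fibre (f : X ⟶ S) (x : X) :
    Brnch.numGeomBranchesAt (f.fiber (f x)) (f.asFiber x) =
      ⨆ (U : Scheme.{u}) (g : U ⟶ X) (u : U) (_ : Etale g ∧ g u = x), fibreCompsAt g f (f x) u := by
  rw [numGeomBranchesAt_eq_iSup]
  refine le_antisymm (iSup_le fun W => iSup_le fun h => iSup_le fun w => iSup_le fun hp => ?_)
    (iSup_le fun U => iSup_le fun g => iSup_le fun u => iSup_le fun hp => ?_)
  · obtain ⟨hh, hw⟩ := hp
    haveI := hh
    obtain ⟨U, g, hg, o, ho, u', hoh, rfl⟩ := exists_affine_lift f x h w hw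
    haveI := ho
    refine le_iSup_of_le U (le_iSup_of_le g (le_iSup_of_le ((g ≫ f).fiberι (f x) u')
      (le_iSup_of_le ⟨hg, ?_⟩ ?_)))
    · rw [← Scheme.Hom.comp_apply, ← fibreMap_fiberι, ← hoh, Scheme.Hom.comp_apply,
        Scheme.Hom.comp_apply, hw, f.fiberι_asFiber]
    · rw [fibreCompsAt_eq, compsAt_eq_of_openImmersion]
  · obtain ⟨hg, hu⟩ := hp
    haveI := hg
    obtain ⟨u', rfl, h2⟩ := exists_point_over g f x u hu
    rw [fibreCompsAt_eq]
    exact le_iSup_of_le _ (le_iSup_of_le (fibreMap g f (f x)) (le_iSup_of_le u'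
      (le_iSup_of_le ⟨etale_fibreMap g f _, h2⟩ le_rfl)))

theorem numBranchesAt_fibre (f : X ⟶ S) (x : X) :
    Brnch.numBranchesAt (f.fiber (f x)) (f.asFiber x) =
      ⨆ (U : Scheme.{u}) (g : U ⟶ X) (u : U) (_ : Hens2.IsEtaleNbhd g u x),
        fibreCompsAt g f (f x) u := by
  rw [numBranchesAt_eq_iSup]
  refine le_antisymm (iSup_le fun W => iSup_le fun h => iSup_le fun w => iSup_le fun hp => ?_)
    (iSup_le fun U => iSup_le fun g => iSup_le fun u => iSup_le fun hp => ?_)
  · obtain ⟨hh, hw, hb⟩ := hp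
    haveI := hh
    obtain ⟨U, g, hg, o, ho, u', hoh, rfl⟩ := exists_affine_lift f x h w hw
    haveI := ho
    refine le_iSup_of_le U (le_iSup_of_le g (le_iSup_of_le ((g ≫ f).fiberι (f x) u')
      (le_iSup_of_le ⟨hg, ?_, ?_⟩ ?_)))
    · show g _ = x
      rw [← Scheme.Hom.comp_apply, ← fibreMap_fiberι, ← hoh, Scheme.Hom.comp_apply,
        Scheme.Hom.comp_apply, show h (o u') = f.asFiber x from hw, f.fiberι_asFiber]
    · rw [← residue_bijective_fibreMap_iff, ← residue_bijective_congr hoh u',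
        residue_bijective_comp_left_iff o h u'
          (FlatMisc.residueFieldMap_bijective_of_isPreimmersion _ _)]
      exact hb
    · rw [fibreCompsAt_eq, compsAt_eq_of_openImmersion]
  · obtain ⟨hg, hu, hb⟩ := hp
    haveI := hg
    obtain ⟨u', rfl, h2⟩ := exists_point_over g f x u hu
    rw [fibreCompsAt_eq]
    exact le_iSup_of_le _ (le_iSup_of_le (fibreMap g f (f x)) (le_iSup_of_le u'
      (le_iSup_of_le ⟨etale_fibreMap g f _, h2, (residue_bijective_fibreMap_iff g f _ u').2 hb⟩ le_rfl)))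

end Groth.Agent.BrnchEt
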