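import Groth.Agent.BrnchEt.Stages
import Groth.Agent.BrnchLib.NormBij
import Groth.Agent.BrnchLib.HenzStrict

/-!
# Branches of a localization and the etale colimit over the global ring
-/

universe u

namespace Groth.Agent.BrnchEt

open Groth.Agent.Hensel IsLocalRing
open Groth.Agent.AlgSpDec

theorem encard_minimalPrimes_of_equiv {S T : Type u} [CommRing S] [CommRing T] (e : S ≃+* T) :
    (minimalPrimes S).encard = (minimalPrimes T).encard := by
  have key : ∀ {S T : Type u} [CommRing S] [CommRing T] (e : S ≃+* T),
      (minimalPrimes S).encard ≤ (minimalPrimes T).encard := by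
    intro S T _ _ e
    refine Set.encard_le_encard_of_injOn (f := Ideal.comap e.symm.toRingHom) ?_ ?_
    · intro P hP
      haveI := hP.1.1
      refine ⟨⟨Ideal.IsPrime.comap _, bot_le⟩, ?_⟩
      rintro Q ⟨hQ, -⟩ hle
      haveI := hQ
      intro t ht
      have h1 : Q.comap e.toRingHom ≤ P := fun s hs => by
        have := hle hs
        simpa using this
      have h2 : e (e.symm t) ∈ Q := hP.2 ⟨Ideal.IsPrime.comap _, bot_le⟩ h1 ht
      rwa [e.apply_symm_apply] at h2
    · intro P _ Q _ h
      exact Ideal.comap_injective_of_surjective e.symm.toRingHom e.symm.surjective h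
  exact le_antisymm (key e) (key e.symm)

variable (A : Type u) [CommRing A] (R : Type u) [CommRing R] [IsLocalRing R] [Algebra A R]
  (M : Submonoid A) [IsLocalization M R]

include M in
/-- The etale colimit over the global ring is the henselization of the local ring. -/
theorem nonempty_localHenz_equiv :
    Nonempty (LocalHenz R ≃+* Henz A (ResidueField R)) := by
  let k := ResidueField R
  haveI : IsLocalHom (algebraMap R k) :=
    ⟨fun r hr => by_contra fun h => hr.ne_zero ((residue_eq_zero_iff r).2 h)⟩
  let H := Henz A k
  let f : R →ₐ[A] H := EtHenz.fromLocal A R k M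
  have hf : ∀ r, Henz.proj A k (f r) = algebraMap R k r := EtHenz.proj_fromLocal A R k M
  haveI : IsLocalHom f.toRingHom := ⟨fun r hr => (isUnit_map_iff (algebraMap R k) r).1 (by
    rw [← hf]; exact hr.map _)⟩
  obtain ⟨g, hg, -⟩ :=
    (isHenselization_localHenz R).universal H f.toRingHom inferInstance
  -- the map back
  letI : Algebra A (LocalHenz R) := ((algebraMap R (LocalHenz R)).comp (algebraMap A R)).toAlgebra
  let L := LocalHenz R
  have hpL : ∀ r, Henz.proj R k (algebraMap R L r) = algebraMap R k r := AlgHom.commutes _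
  have hker : RingHom.ker (Henz.proj R k).toRingHom = maximalIdeal L :=
    (maximalIdeal_henz (R := R) (L := k)).symm
  have hsur : Function.Surjective (Henz.proj R k) :=
    Henz.proj_surjective_of_surjective R residue_surjective
  let θ₀ : k →+* L ⧸ maximalIdeal L :=
    (Ideal.quotEquivOfEq hker).toRingHom.comp
      (RingHom.quotientKerEquivOfSurjective (f := (Henz.proj R k).toRingHom) hsur).symm.toRingHom
  have hθ : ∀ z : L, θ₀ (Henz.proj R k z) = Ideal.Quotient.mk _ z := fun z => by
    have : (RingHom.quotientKerEquivOfSurjective (f := (Henz.proj R k).toRingHom) hsur).symm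
        (Henz.proj R k z) = Ideal.Quotient.mk _ z :=
      (RingEquiv.symm_apply_eq _).2 rfl
    simp only [θ₀, RingHom.comp_apply, RingEquiv.toRingHom_eq_coe, RingEquiv.coe_toRingHom]
    erw [this]
    exact Ideal.quotEquivOfEq_mk hker z
  let θ : k →ₐ[A] L ⧸ maximalIdeal L :=
    { θ₀ with
      commutes' := fun a => by
        show θ₀ (algebraMap A k a) = _
        rw [IsScalarTower.algebraMap_apply A R k, ← hpL, hθ]
        rfl }
  obtain ⟨g', hg', -⟩ := Henz.existsUnique_lift (R := A) (K := k) (maximalIdeal L)
    (θ.comp (Henz.proj A k).range.val)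
  have hgA : ∀ a : A, g (algebraMap A L a) = algebraMap A H a := fun a => by
    show g (algebraMap R L (algebraMap A R a)) = _
    rw [show g (algebraMap R L _) = f _ from congr($hg _), AlgHom.commutes]
  have hgp : ∀ z : L, Henz.proj A k (g z) = Henz.proj R k z := by
    intro z
    obtain ⟨r, hr⟩ := residue_surjective (Henz.proj R k z)
    have hz : z - algebraMap R L r ∈ maximalIdeal L := by
      rw [← hker, RingHom.mem_ker]
      show Henz.proj R k (z - algebraMap R L r) = 0
      rw [map_sub, hpL, ← hr, IsLocalRing.ResidueField.algebraMap_eq, sub_self]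
    haveI : IsLocalHom (g.comp (algebraMap R L)) := by rw [hg]; infer_instance
    rw [← map_maximalIdeal_henz] at hz
    have h1 := Ideal.mem_map_of_mem g hz
    rw [Ideal.map_map] at h1
    have h2 : g z - g (algebraMap R L r) ∈ RingHom.ker (Henz.proj A k) := by
      rw [← EtHenz.maximalIdeal_eq, ← map_sub]
      exact (show (maximalIdeal R).map (g.comp (algebraMap R L)) ≤ maximalIdeal H from
        Ideal.map_le_iff_le_comap.mpr fun a ha => map_nonunit _ a ha) h1
    rw [RingHom.mem_ker, map_sub, sub_eq_zero] at h2
    rw [h2, show g (algebraMap R L r) = f r from congr($hg r), hf, ← hr]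
    rfl
  have hg'R : ∀ r, g' (f r) = algebraMap R L r := fun r => by
    have : g'.toRingHom.comp f.toRingHom = algebraMap R L :=
      IsLocalization.ringHom_ext M (RingHom.ext fun a => by
        simp only [RingHom.comp_apply, AlgHom.toRingHom_eq_coe, RingHom.coe_coe, AlgHom.commutes]
        exact g'.commutes a)
    exact congr($this r)
  have h1 : g'.toRingHom.comp g = RingHom.id L :=
    ((isHenselization_localHenz R).universal L (algebraMap R L) inferInstance).unique
      (RingHom.ext fun r => by
        show g' (g (algebraMap R L r)) = _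
        rw [show g (algebraMap R L r) = f r from congr($hg r), hg'R])
      (RingHom.id_comp _)
  have h2 : g.comp g'.toRingHom = RingHom.id H := by
    haveI : HenselianRing H (maximalIdeal H) := by
      rw [EtHenz.maximalIdeal_eq]; exact Henz.henselianRing
    let θ' : (Henz.proj A k).range →ₐ[A] H ⧸ maximalIdeal H :=
      (Ideal.Quotient.liftₐ (RingHom.ker (Henz.proj A k).rangeRestrict) (Ideal.Quotient.mkₐ A _)
        (fun z hz => by
          rw [Ideal.Quotient.mkₐ_eq_mk, Ideal.Quotient.eq_zero_iff_mem, EtHenz.maximalIdeal_eq,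
            RingHom.mem_ker]
          exact congrArg Subtype.val hz)).comp
        (Ideal.quotientKerAlgEquivOfSurjective
          (AlgHom.rangeRestrict_surjective (Henz.proj A k))).symm.toAlgHom
    have hθ' : ∀ z, θ' ((Henz.proj A k).rangeRestrict z) = Ideal.Quotient.mk _ z := fun z => by
      simp only [θ', AlgHom.comp_apply]
      rw [show (Ideal.quotientKerAlgEquivOfSurjective
          (AlgHom.rangeRestrict_surjective (Henz.proj A k))).symm.toAlgHom
          ((Henz.proj A k).rangeRestrict z) = Ideal.Quotient.mk _ z from
        (AlgEquiv.symm_apply_eq _).2 rfl]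
      rfl
    let c : H →ₐ[A] H :=
      { g.comp g'.toRingHom with
        commutes' := fun a => by
          show g (g' (algebraMap A H a)) = _
          rw [AlgHom.commutes, hgA] }
    have hc : ∀ z, Ideal.Quotient.mk (maximalIdeal H) (c z) = θ' ((Henz.proj A k).rangeRestrict z) := by
      intro z
      rw [hθ', Ideal.Quotient.eq, EtHenz.maximalIdeal_eq, RingHom.mem_ker, map_sub, sub_eq_zero]
      show Henz.proj A k (g (g' z)) = _
      rw [hgp]
      obtain ⟨w, hw⟩ := hsur (Henz.proj A k z)
      have h3 : Ideal.Quotient.mk (maximalIdeal L) (g' z) = Ideal.Quotient.mk _ w := by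
        rw [hg', ← hθ w, hw]
        rfl
      rw [Ideal.Quotient.eq, ← hker, RingHom.mem_ker] at h3
      rw [← hw, ← sub_eq_zero, ← map_sub]
      exact h3
    have := (Henz.existsUnique_lift (R := A) (K := k) (maximalIdeal H) θ').unique hc
      (y₂ := AlgHom.id A H) (fun z => (hθ' z).symm)
    exact congrArg AlgHom.toRingHom this
  exact ⟨RingEquiv.ofRingHom g g'.toRingHom h2 h1⟩

include M in
theorem numBranches_eq_iSup :
    Brnch.numBranches R =
      ⨆ (B : Type u) (_ : CommRing B) (_ : Algebra A B) (_ : Algebra.Etale A B)
        (τ : B →ₐ[A] ResidueField R),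
        {P | P ∈ minimalPrimes B ∧ P ≤ RingHom.ker τ}.encard := by
  obtain ⟨e⟩ := nonempty_localHenz_equiv A R M
  rw [← encard_minimalPrimes_henz_iSup, ← encard_minimalPrimes_of_equiv e]
  exact (BrnchLib.card_minimalPrimes_henselization R (LocalHenz R)).symm

include M in
theorem numGeomBranches_eq_iSup :
    Brnch.numGeomBranches R =
      ⨆ (B : Type u) (_ : CommRing B) (_ : Algebra A B) (_ : Algebra.Etale A B)
        (τ : B →ₐ[A] AlgebraicClosure (ResidueField R)),
        {P | P ∈ minimalPrimes B ∧ P ≤ RingHom.ker τ}.encard := by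
  let K := AlgebraicClosure (ResidueField R)
  haveI : IsLocalHom (algebraMap R K) := ⟨fun r hr => by_contra fun h => hr.ne_zero (by
    rw [IsScalarTower.algebraMap_apply R (ResidueField R) K, IsLocalRing.ResidueField.algebraMap_eq,
      (residue_eq_zero_iff r).2 h, map_zero])⟩
  letI := (EtHenz.fromLocal A R K M).toRingHom.toAlgebra
  obtain ⟨h1, h2⟩ := EtHenz.isStrictHenselization A R K M
  rw [← encard_minimalPrimes_henz_iSup]
  exact (BrnchLib.card_minimalPrimes_strictHenselization R (Henz A K)).symm

end Groth.Agent.BrnchEt
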