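import Groth.Agent.Hensel.Colim
import Groth.Agent.AlgSpDec.EtHenzField
import Mathlib.RingTheory.Ideal.GoingDown
import Mathlib.RingTheory.Etale.Basic
import Mathlib.Data.Set.Card

/-!
# Minimal primes of an etale colimit

The minimal primes of `Henz R K` are counted by those of the etale algebras with a map to `K`
which lie below the kernel of that map.
-/

universe u

namespace Groth.Agent.BrnchEt

open Groth.Agent.Hensel
open Henz (ofB)

variable {R : Type u} [CommRing R] {K : Type u}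

section ring

variable [CommRing K] [Algebra R K]

theorem flat_of_algHom {N M : Nbhd R K} (α : N.B →ₐ[R] M.B) : α.toRingHom.Flat := by
  letI := α.toRingHom.toAlgebra
  haveI : IsScalarTower R N.B M.B := .of_algebraMap_eq fun r => (α.commutes r).symm
  haveI : Algebra.Etale N.B M.B := .of_restrictScalars R N.B M.B
  exact (inferInstance : Module.Flat N.B M.B)

theorem exists_le_comap_eq_of_algHom {N M : Nbhd R K} (α : N.B →ₐ[R] M.B) (Q : Ideal M.B)
    [Q.IsPrime] (P : Ideal N.B) [P.IsPrime] (h : P ≤ Q.comap α.toRingHom) :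
    ∃ Q' ≤ Q, Q'.IsPrime ∧ Q'.comap α.toRingHom = P := by
  letI := α.toRingHom.toAlgebra
  haveI : Module.Flat N.B M.B := flat_of_algHom α
  haveI : Q.LiesOver (Q.comap α.toRingHom) := ⟨rfl⟩
  obtain ⟨Q', h1, h2, h3⟩ := Q.exists_ideal_le_liesOver_of_le (p := P) (q := Q.comap α.toRingHom) h
  exact ⟨Q', h1, h2, h3.over.symm⟩

/-- Finitely many elements come from one stage above a given one. -/
theorem exists_ofB_finset (N : Nbhd R K) (s : Finset (Henz R K)) :
    ∃ (M : Nbhd R K) (α : N.B →ₐ[R] M.B), M.toK.comp α = N.toK ∧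
      ∀ z ∈ s, ∃ b, ofB M b = z := by
  classical
  induction s using Finset.induction with
  | empty => exact ⟨N, .id R _, AlgHom.comp_id _, by simp⟩
  | insert a t _ ih =>
    obtain ⟨M, α, hα, h⟩ := ih
    obtain ⟨M', b, rfl⟩ := Henz.exists_ofB a
    obtain ⟨P, β, γ, hβ, hγ⟩ := M.exists_hom₂ M'
    refine ⟨P, β.comp α, by rw [← AlgHom.comp_assoc, hβ, hα], fun z hz => ?_⟩
    rcases Finset.mem_insert.mp hz with rfl | hz
    · exact ⟨γ b, congr($(Henz.ofB_comp γ hγ) b)⟩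
    · obtain ⟨y, rfl⟩ := h z hz
      exact ⟨β y, congr($(Henz.ofB_comp β hβ) y)⟩

theorem exists_mem_map_of_mem_map (N : Nbhd R K) (P : Ideal N.B) {z : Henz R K}
    (hz : z ∈ P.map (ofB N)) :
    ∃ (M : Nbhd R K) (α : N.B →ₐ[R] M.B), M.toK.comp α = N.toK ∧
      ∃ y ∈ P.map α.toRingHom, ofB M y = z := by
  refine Submodule.span_induction (p := fun x _ => ∃ (M : Nbhd R K) (α : N.B →ₐ[R] M.B),
    M.toK.comp α = N.toK ∧ ∃ y ∈ P.map α.toRingHom, ofB M y = x) ?_ ?_ ?_ ?_ hz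
  · rintro _ ⟨p, hp, rfl⟩
    exact ⟨N, .id R _, AlgHom.comp_id _, p, Ideal.mem_map_of_mem _ hp, rfl⟩
  · exact ⟨N, .id R _, AlgHom.comp_id _, 0, zero_mem _, map_zero _⟩
  · rintro x y - - ⟨M, α, hα, a, ha, rfl⟩ ⟨M', α', hα', b, hb, rfl⟩
    obtain ⟨Q, β, γ, hβ, hγ⟩ := M.exists_hom₂ M'
    obtain ⟨Q', δ, hδ, heq⟩ := Nbhd.exists_equalizer (β.comp α) (γ.comp α')
      (by rw [← AlgHom.comp_assoc, hβ, hα]) (by rw [← AlgHom.comp_assoc, hγ, hα'])
    refine ⟨Q', δ.comp (β.comp α), by rw [← AlgHom.comp_assoc, hδ, ← AlgHom.comp_assoc, hβ, hα],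
      δ (β a) + δ (γ b), add_mem ?_ ?_, ?_⟩
    · have := Ideal.mem_map_of_mem (δ.comp β).toRingHom ha
      rwa [Ideal.map_map] at this
    · have := Ideal.mem_map_of_mem (δ.comp γ).toRingHom hb
      rw [Ideal.map_map] at this
      rw [heq]
      exact this
    · rw [map_add, ← congr($(Henz.ofB_comp β hβ) a), ← congr($(Henz.ofB_comp γ hγ) b)]
      simp only [AlgHom.comp_apply]
      rw [show ofB Q' (δ (β a)) = ofB Q (β a) from congr($(Henz.ofB_comp δ hδ) (β a)),
        show ofB Q' (δ (γ b)) = ofB Q (γ b) from congr($(Henz.ofB_comp δ hδ) (γ b))]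
  · rintro c x - ⟨M, α, hα, a, ha, rfl⟩
    obtain ⟨M', β, hβ, hc⟩ := exists_ofB_finset M {c}
    obtain ⟨c₀, rfl⟩ := hc c (Finset.mem_singleton_self _)
    refine ⟨M', β.comp α, by rw [← AlgHom.comp_assoc, hβ, hα], c₀ * β a,
      Ideal.mul_mem_left _ _ ?_, ?_⟩
    · have := Ideal.mem_map_of_mem β.toRingHom ha
      rwa [Ideal.map_map] at this
    · rw [map_mul, show ofB M' (β a) = ofB M a from congr($(Henz.ofB_comp β hβ) a)]
      rfl

/-- Going down for the maps of the stages into the colimit. -/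
theorem exists_le_comap_eq (N : Nbhd R K) (Q : Ideal (Henz R K)) [Q.IsPrime] (P : Ideal N.B)
    [P.IsPrime] (hP : P ≤ Q.comap (ofB N)) :
    ∃ Q' ≤ Q, Q'.IsPrime ∧ Q'.comap (ofB N) = P := by
  let T : Submonoid (Henz R K) := Q.primeCompl ⊔ P.primeCompl.map (ofB N)
  have hdisj : Disjoint ((P.map (ofB N) : Ideal (Henz R K)) : Set (Henz R K)) (T : Set (Henz R K)) := by
    rw [Set.disjoint_left]
    intro z hz hzT
    obtain ⟨h, hh, _, ⟨s, hs, rfl⟩, rfl⟩ := Submonoid.mem_sup.mp hzT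
    obtain ⟨M, α, hα, y, hy, hy'⟩ := exists_mem_map_of_mem_map N P hz
    obtain ⟨M₁, β, hβ, hh₁⟩ := exists_ofB_finset M {h}
    obtain ⟨h₀, rfl⟩ := hh₁ h (Finset.mem_singleton_self _)
    have e : ofB M₁ (β y) = ofB M₁ (h₀ * β (α s)) := by
      rw [show ofB M₁ (β y) = ofB M y from congr($(Henz.ofB_comp β hβ) y), hy', map_mul,
        show ofB M₁ (β (α s)) = ofB N s from
          (congr($(Henz.ofB_comp β hβ) (α s))).trans congr($(Henz.ofB_comp α hα) s)]
    obtain ⟨M₂, γ, hγ, e'⟩ := Henz.exists_of_ofB_eq e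
    let δ : N.B →ₐ[R] M₂.B := γ.comp (β.comp α)
    have hδ : M₂.toK.comp δ = N.toK := by
      rw [← AlgHom.comp_assoc, hγ, ← AlgHom.comp_assoc, hβ, hα]
    obtain ⟨P', hle, hP', hc⟩ := exists_le_comap_eq_of_algHom δ (Q.comap (ofB M₂)) P fun p hp => by
      show ofB M₂ (δ p) ∈ Q
      rw [show ofB M₂ (δ p) = ofB N p from congr($(Henz.ofB_comp δ hδ) p)]
      exact hP hp
    have h1 : γ (h₀ * β (α s)) ∈ P' := by
      rw [← e']
      have : γ (β y) ∈ P.map δ.toRingHom := by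
        have := Ideal.mem_map_of_mem (γ.comp β).toRingHom hy
        rwa [Ideal.map_map] at this
      exact Ideal.map_le_iff_le_comap.mpr hc.ge this
    rw [map_mul] at h1
    rcases hP'.mem_or_mem h1 with h2 | h2
    · refine hh ?_
      have := hle h2
      rwa [Ideal.mem_comap, show ofB M₂ (γ h₀) = ofB M₁ h₀ from congr($(Henz.ofB_comp γ hγ) h₀)]
        at this
    · exact hs (hc.le (show s ∈ P'.comap δ.toRingHom from h2))
  obtain ⟨Q', hQ', h1, h2⟩ := Ideal.exists_le_prime_disjoint _ T hdisj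
  refine ⟨Q', fun z hz => by_contra fun hn =>
    Set.disjoint_left.mp h2 hz (Submonoid.mem_sup_left hn), hQ',
    le_antisymm (fun b hb => by_contra fun hn =>
      Set.disjoint_left.mp h2 hb (Submonoid.mem_sup_right ⟨b, hn, rfl⟩))
      (Ideal.map_le_iff_le_comap.mp h1)⟩

end ring

section field

variable [Field K] [Algebra R K]

open IsLocalRing

theorem comap_maximalIdeal (N : Nbhd R K) :
    (maximalIdeal (Henz R K)).comap (ofB N) = RingHom.ker N.toK := by
  ext b
  rw [AlgSpDec.EtHenz.maximalIdeal_eq]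
  simp [RingHom.mem_ker]

/-- The minimal primes of a stage below the point are the traces of the minimal primes. -/
theorem encard_stage_le (N : Nbhd R K) :
    {P | P ∈ minimalPrimes N.B ∧ P ≤ RingHom.ker N.toK}.encard ≤
      (minimalPrimes (Henz R K)).encard := by
  have key : ∀ P ∈ {P | P ∈ minimalPrimes N.B ∧ P ≤ RingHom.ker N.toK},
      ∃ Q ∈ minimalPrimes (Henz R K), Q.comap (ofB N) = P := by
    rintro P ⟨hP, hle⟩
    haveI := hP.1.1
    obtain ⟨Q', -, hQ', hc⟩ := exists_le_comap_eq N (maximalIdeal (Henz R K)) P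
      (hle.trans_eq (comap_maximalIdeal N).symm)
    haveI := hQ'
    obtain ⟨Q, hQ, hQle⟩ := Ideal.exists_minimalPrimes_le (bot_le : (⊥ : Ideal (Henz R K)) ≤ Q')
    haveI := hQ.1.1
    refine ⟨Q, hQ, le_antisymm ?_ ?_⟩
    · rw [← hc]; exact Ideal.comap_mono hQle
    · exact hP.2 ⟨Ideal.IsPrime.comap _, bot_le⟩ (by rw [← hc]; exact Ideal.comap_mono hQle)
  choose Q hQ hc using key
  refine (Set.encard_le_encard (fun P hP => ?_ : _ ⊆ (Ideal.comap (ofB N)) '' minimalPrimes (Henz R K))).trans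
    (Set.encard_image_le _ _)
  exact ⟨Q P hP, hQ P hP, hc P hP⟩

theorem comap_mem_stage (N : Nbhd R K) {Q : Ideal (Henz R K)} (hQ : Q ∈ minimalPrimes (Henz R K)) :
    Q.comap (ofB N) ∈ minimalPrimes N.B ∧ Q.comap (ofB N) ≤ RingHom.ker N.toK := by
  haveI := hQ.1.1
  refine ⟨⟨⟨Ideal.IsPrime.comap _, bot_le⟩, ?_⟩, ?_⟩
  · rintro P ⟨hP, -⟩ hle
    haveI := hP
    obtain ⟨Q', hQ'le, hQ', rfl⟩ := exists_le_comap_eq N Q P hle
    exact Ideal.comap_mono (hQ.2 ⟨hQ', bot_le⟩ hQ'le)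
  · rw [← comap_maximalIdeal]
    exact Ideal.comap_mono (le_maximalIdeal hQ.1.1.ne_top)

theorem encard_minimalPrimes_henz :
    (minimalPrimes (Henz R K)).encard =
      ⨆ N : Nbhd R K, {P | P ∈ minimalPrimes N.B ∧ P ≤ RingHom.ker N.toK}.encard := by
  refine le_antisymm ?_ (iSup_le encard_stage_le)
  refine ENat.forall_natCast_le_iff_le.mp fun k hk => ?_
  obtain ⟨t, ht, htk⟩ := Set.exists_subset_encard_eq hk
  classical
  have htf : t.Finite := Set.finite_of_encard_eq_coe htk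
  have sep : ∀ p : t × t, ∃ x : Henz R K, p.1 ≠ p.2 → ¬ (x ∈ p.1.1 ↔ x ∈ p.2.1) := fun p => by
    by_cases h : p.1 = p.2
    · exact ⟨0, fun h' => absurd h h'⟩
    · obtain ⟨x, hx⟩ : ∃ x, ¬ (x ∈ p.1.1 ↔ x ∈ p.2.1) := by
        by_contra hc
        push_neg at hc
        exact h (Subtype.ext (Ideal.ext hc))
      exact ⟨x, fun _ => hx⟩
  choose x hx using sep
  haveI := htf.fintype
  obtain ⟨M, -, -, hM⟩ := exists_ofB_finset (Classical.arbitrary (Nbhd R K)) (Finset.univ.image x)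
  refine le_iSup_of_le M ?_
  rw [← htk]
  refine Set.encard_le_encard_of_injOn (f := Ideal.comap (ofB M)) (fun Q hQ => comap_mem_stage M (ht hQ)) ?_
  intro Q hQ Q' hQ' he
  by_contra hne
  obtain ⟨b, hb⟩ := hM (x (⟨Q, hQ⟩, ⟨Q', hQ'⟩)) (Finset.mem_image_of_mem _ (Finset.mem_univ _))
  refine hx (⟨Q, hQ⟩, ⟨Q', hQ'⟩) (fun h => hne congr(Subtype.val $h)) ?_
  show _ ∈ Q ↔ _ ∈ Q'
  rw [← hb, ← Ideal.mem_comap, ← Ideal.mem_comap, he]

/-- The same count over all etale algebras with a map to the field. -/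
theorem encard_minimalPrimes_henz_iSup :
    (minimalPrimes (Henz R K)).encard =
      ⨆ (B : Type u) (_ : CommRing B) (_ : Algebra R B) (_ : Algebra.Etale R B) (τ : B →ₐ[R] K),
        {P | P ∈ minimalPrimes B ∧ P ≤ RingHom.ker τ}.encard := by
  rw [encard_minimalPrimes_henz]
  refine le_antisymm (iSup_le fun N => ?_) ?_
  · exact le_iSup_of_le N.B (le_iSup_of_le inferInstance (le_iSup_of_le inferInstance
      (le_iSup_of_le inferInstance (le_iSup_of_le N.toK le_rfl))))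
  refine iSup_le fun B => iSup_le fun _ => iSup_le fun _ => iSup_le fun _ => iSup_le fun τ => ?_
  obtain ⟨N, e, he⟩ := Nbhd.exists_equiv B τ
  refine le_iSup_of_le N (Set.encard_le_encard_of_injOn (f := Ideal.comap e.toAlgHom.toRingHom) ?_ ?_)
  · rintro P ⟨hP, hle⟩
    haveI := hP.1.1
    refine ⟨?_, ?_⟩
    · refine ⟨⟨Ideal.IsPrime.comap _, bot_le⟩, ?_⟩
      rintro P' ⟨hP', -⟩ hle'
      haveI := hP'
      refine fun b hb => ?_
      have h1 : P'.comap e.symm.toAlgHom.toRingHom ≤ P := fun c hc => by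
        have := hle' hc
        simpa using this
      have := hP.2 ⟨Ideal.IsPrime.comap _, bot_le⟩ h1 hb
      simpa using this
    · intro b hb
      rw [RingHom.mem_ker, he]
      exact hle hb
  · intro P _ Q _ h
    exact Ideal.comap_injective_of_surjective e.toAlgHom.toRingHom e.surjective h

end field

end Groth.Agent.BrnchEt
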